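import Cfsg.Agent.Known.Gen2.Basic
import Cfsg.Agent.Known.Pres.SL2
import Cfsg.Agent.S2278
import Cfsg.Agent.S2279

/-! Generation of `PSL` by two elements. -/

set_option autoImplicit false

namespace CF.Known.Gen2

open Matrix Pres CF.Chev

variable {F : Type*} [Field F] [Fintype F]

theorem two_SL2 (h : 4 ≤ Fintype.card F) :
    ∃ a b : SpecialLinearGroup (Fin 2) F, Subgroup.closure {a, b} = ⊤ := by
  obtain ⟨ζ, hζ⟩ := exists_isGen F
  obtain ⟨h1, h2, -⟩ := sl2_rels ζ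
  have hx := addv_sl2x (F := F) true
  have z : (ζ : F) ^ 2 ≠ 1 := fun e => by
    have := Nat.le_of_dvd two_pos (orderOf_dvd_of_pow_eq_one (x := ζ) (Units.ext (by simpa using e)))
    rw [hζ.orderOf] at this
    omega
  refine ⟨(sl2Rep F).h true ζ, sl2x F true 1 * (sl2Rep F).n true 1, ?_⟩
  rw [eq_top_iff, ← sl2_gen hζ, Subgroup.closure_le]
  have e1 := Subgroup.subset_closure (k := {(sl2Rep F).h true ζ, sl2x F true 1 *
    (sl2Rep F).n true 1}) (.inl rfl)
  have e2 := Subgroup.subset_closure (k := {(sl2Rep F).h true ζ, sl2x F true 1 *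
    (sl2Rep F).n true 1}) (.inr rfl)
  obtain ⟨_, e3, rfl⟩ := trick_all (P := fun t g => g = sl2x F true t)
    (by rintro _ _ _ _ rfl rfl; rw [hx]) (by rintro _ _ rfl; rw [hx.neg]) e1 e2
    (by rw [h2]; exact (Commute.refl _).inv_right) (by rintro _ _ rfl; rw [h1])
    (l' := ((ζ : F) ^ 2)⁻¹) (by rintro _ _ rfl; rw [h2, inv_inv, inv_conj h1 (by simp)])
    hζ.closure_sq z (by simpa using z) rfl 1
  rintro _ ⟨i, rfl⟩
  fin_cases i
  exacts [e3, e1, (mul_mem_cancel_left e3).1 e2]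

theorem two_PSL {n : ℕ} (hn : 2 ≤ n) (h : n = 2 → 4 ≤ Fintype.card F) :
    ∃ a b : ProjectiveSpecialLinearGroup (Fin n) F, Subgroup.closure {a, b} = ⊤ := by
  obtain ⟨a, b, e⟩ : ∃ a b : SpecialLinearGroup (Fin n) F, Subgroup.closure {a, b} = ⊤ := by
    obtain rfl | rfl | h4 : n = 2 ∨ n = 3 ∨ 4 ≤ n := by omega
    · exact two_SL2 (h rfl)
    · obtain ⟨u, g, -, -, e⟩ := Cfsg.Agent.S2278.result (F := F)
      exact ⟨_, _, e⟩
    · obtain ⟨u, g, -, -, e⟩ := (Cfsg.Agent.S2279.result (F := F) n h4).1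
      exact ⟨_, _, e⟩
  refine ⟨QuotientGroup.mk' _ a, QuotientGroup.mk' _ b, ?_⟩
  rw [← Set.image_pair, ← MonoidHom.map_closure, e,
    Subgroup.map_top_of_surjective _ (QuotientGroup.mk'_surjective _)]

end CF.Known.Gen2
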